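import Cfsg.Agent.H964.AltMod.Tr
import Cfsg.Agent.H614.AMod.Odd
import Cfsg.Agent.H915.LD

/-!
# Matrix groups isomorphic to alternating groups (helper964)

`P ≤ GL(ι, F)` a `Core`, `φ : P ≃* Alt α`, `|α| ≥ 8`.

* `equivOfSoc` : `P ∩ scalars = 1` : `P ≃* Soc P`;
* `rep φ` : the representation; `irr_rep`, `exists_move_rep`, `trace_rep`;
* `exists_natM` : `Indep (rep φ)` : the vectors `F i j`; `exists_natM_odd` : for `p` odd, `n ≤ 12`;
* `dim_cases` : `n = m - 1`, `m ≠ 0` in `F`, or `n = m - 2`, `m = 0` in `F`;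
* `sd`, `fr`, `card_eq` : `SD P`, `Fr P p`, `|F| = p`.
-/

set_option autoImplicit false
set_option linter.unusedSectionVars false

namespace Cfsg.Agent.H964.AltMod

open Equiv Equiv.Perm Cfsg Cfsg.Geo Matrix
open Cfsg.Agent.H614.AMod Cfsg.Agent.H882.Del Cfsg.Agent.H915.LD

universe u

variable {ι : Type} [Fintype ι] [DecidableEq ι] {F : Type u} [Field F] {P : Subgroup (GL ι F)}

/-- `P ∩ scalars = 1` -/
theorem equivOfSoc (hZ : (scalars ι F).subgroupOf P = ⊥) {T : Type*} [Group T] (e : Soc P ≃* T) :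
    Nonempty (P ≃* T) :=
  ⟨((QuotientGroup.quotientBot (G := P)).symm.trans (QuotientGroup.quotientMulEquivOfEq hZ.symm)).trans e⟩

section rep

variable {A : Type*} [Group A] (φ : P ≃* A)

/-- the representation of an isomorphic group -/
noncomputable def rep : Representation F A (ι → F) where
  toFun a := Matrix.toLin' ((φ.symm a : GL ι F) : Matrix ι ι F)
  map_one' := by
    rw [map_one, Subgroup.coe_one, Units.val_one, Matrix.toLin'_one]
    rfl
  map_mul' a b := by
    rw [map_mul, Subgroup.coe_mul, Units.val_mul, Matrix.toLin'_mul]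
    rfl

theorem rep_apply (a : A) (v : ι → F) : rep φ a v = ((φ.symm a : GL ι F) : Matrix ι ι F) *ᵥ v :=
  Matrix.toLin'_apply _ _

theorem rep_apply' (g : P) (v : ι → F) : rep φ (φ g) v = ((g : GL ι F) : Matrix ι ι F) *ᵥ v := by
  rw [rep_apply, MulEquiv.symm_apply_apply]

theorem trace_rep (g : P) : LinearMap.trace F (ι → F) (rep φ (φ g)) = tr (g : GL ι F) := by
  have h : rep φ (φ g) = Matrix.toLin' ((g : GL ι F) : Matrix ι ι F) :=
    LinearMap.ext fun v => by rw [rep_apply', Matrix.toLin'_apply]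
  rw [h]
  unfold tr
  rw [LinearMap.trace_eq_matrix_trace F (Pi.basisFun F ι), LinearMap.toMatrix_eq_toMatrix', LinearMap.toMatrix'_toLin']

theorem irr_rep (hC : Core P) : Irr (rep φ) := by
  intro W hW
  refine hC.absIrred.1 W fun s hs => ?_
  obtain ⟨g, hg, rfl⟩ := hs
  rintro _ ⟨w, hw, rfl⟩
  have h1 := hW (φ ⟨g, hg⟩) w hw
  rw [rep_apply'] at h1
  rwa [Matrix.toLin'_apply]

theorem exists_move_rep (hC : Core P) : ∃ (a : A) (v : ι → F), rep φ a v ≠ v := by
  by_contra h
  push Not at h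
  apply hC.nonabelian
  have h1 : ∀ g : P, g = 1 := by
    intro g
    apply Subtype.ext
    apply Units.ext
    apply Matrix.toLin'.injective
    refine LinearMap.ext fun v => ?_
    have h2 := h (φ g) v
    rw [rep_apply'] at h2
    rw [Matrix.toLin'_apply, h2, Subgroup.coe_one, Units.val_one, Matrix.toLin'_one, LinearMap.id_apply]
  refine ⟨⟨fun a b => ?_⟩⟩
  induction a using QuotientGroup.induction_on with
  | H a =>
    induction b using QuotientGroup.induction_on with
    | H b => rw [h1 a, h1 b]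

end rep

variable {α : Type*} [Fintype α] [DecidableEq α] (φ : P ≃* alternatingGroup α)

theorem exists_natM (hC : Core P) (h8 : 8 ≤ Fintype.card α) (hD : Indep (rep φ)) :
    ∃ w : α → α → (ι → F), NatM (rep φ) w := by
  obtain ⟨a, v, hv⟩ := exists_move_rep φ hC
  obtain ⟨w, h1, h2, h3, h4, h5⟩ := natural hD h8 (irr_rep φ hC) hv
  exact ⟨w, h1, h2, h3, h4, h5⟩

theorem exists_natM_odd (hC : Core P) (h8 : 8 ≤ Fintype.card α) (h2 : (2 : F) ≠ 0) (hn : Fintype.card ι ≤ 12) :
    ∃ w : α → α → (ι → F), NatM (rep φ) w :=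
  exists_natM φ hC h8 (indep_odd h8 h2 (by rwa [Module.finrank_fintype_fun_eq_card]))

variable {φ} {w : α → α → (ι → F)}

theorem dim_cases (hC : Core P) (h8 : 8 ≤ Fintype.card α) (N : NatM (rep φ) w) :
    ((Fintype.card α : F) ≠ 0 ∧ Fintype.card ι + 1 = Fintype.card α) ∨
      ((Fintype.card α : F) = 0 ∧ Fintype.card ι + 2 = Fintype.card α) := by
  by_cases h : (Fintype.card α : F) = 0
  · have h1 := N.finrank_of_eq h8 h (irr_rep φ hC)
    rw [Module.finrank_fintype_fun_eq_card] at h1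
    exact Or.inr ⟨h, h1⟩
  · have h1 := N.finrank_of_ne h8 h
    rw [Module.finrank_fintype_fun_eq_card] at h1
    exact Or.inl ⟨h, h1⟩

theorem tr_of_ne (h8 : 8 ≤ Fintype.card α) (N : NatM (rep φ) w) (hm : (Fintype.card α : F) ≠ 0) (g : P) :
    tr (g : GL ι F) = (fix ((φ g : alternatingGroup α) : Perm α) : F) - 1 := by
  rw [← trace_rep φ g, N.trace_of_ne h8 hm]

theorem tr_of_eq (hC : Core P) (h8 : 8 ≤ Fintype.card α) (N : NatM (rep φ) w) (hm : (Fintype.card α : F) = 0) (g : P) :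
    tr (g : GL ι F) = (fix ((φ g : alternatingGroup α) : Perm α) : F) - 2 := by
  rw [← trace_rep φ g, N.trace_of_eq h8 hm (irr_rep φ hC)]

theorem sd (hC : Core P) (h8 : 8 ≤ Fintype.card α) (N : NatM (rep φ) w) : SD P := by
  intro g hg
  have h1 : fix ((φ (⟨g, hg⟩⁻¹ : P) : alternatingGroup α) : Perm α) = fix ((φ ⟨g, hg⟩ : alternatingGroup α) : Perm α) := by
    rw [map_inv, Subgroup.coe_inv, fix_inv]
  by_cases h : (Fintype.card α : F) = 0
  · have h2 := tr_of_eq hC h8 N h (⟨g, hg⟩⁻¹ : P)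
    have h3 := tr_of_eq hC h8 N h ⟨g, hg⟩
    rw [h1, ← h3] at h2
    exact h2
  · have h2 := tr_of_ne h8 N h (⟨g, hg⟩⁻¹ : P)
    have h3 := tr_of_ne h8 N h ⟨g, hg⟩
    rw [h1, ← h3] at h2
    exact h2

theorem fr (hC : Core P) (h8 : 8 ≤ Fintype.card α) (N : NatM (rep φ) w) (p : ℕ) [hp : Fact p.Prime] [CharP F p] :
    Fr P p := by
  intro g hg
  have key : ∀ k c : ℕ, ((k : F) - (c : F)) ^ p = (k : F) - (c : F) := by
    intro k c
    have h1 := map_sub (frobenius F p) (k : F) (c : F)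
    rw [map_natCast, map_natCast, frobenius_def] at h1
    exact h1
  by_cases h : (Fintype.card α : F) = 0
  · have h3 := tr_of_eq hC h8 N h ⟨g, hg⟩
    have h4 := key (fix ((φ ⟨g, hg⟩ : alternatingGroup α) : Perm α)) 2
    rw [Nat.cast_ofNat, ← h3] at h4
    exact h4
  · have h3 := tr_of_ne h8 N h ⟨g, hg⟩
    have h4 := key (fix ((φ ⟨g, hg⟩ : alternatingGroup α) : Perm α)) 1
    rw [Nat.cast_one, ← h3] at h4
    exact h4

theorem card_eq [Fintype F] (hC : Core P) (h8 : 8 ≤ Fintype.card α) (N : NatM (rep φ) w) (p : ℕ) [hp : Fact p.Prime]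
    [CharP F p] : Fintype.card F = p := hC.card_eq p (fr hC h8 N p)

end Cfsg.Agent.H964.AltMod
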