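import Cfsg.Agent.H964.AltMod.Mat
import Cfsg.Agent.H614.AMod.Ten
import Cfsg.Agent.H614.AMod.NineB
import Cfsg.Agent.H825.SpinForm
import Cfsg.Agent.H114.AltNorm
import Cfsg.Agent.H933.O10.DelNM
import Cfsg.Agent.H882.Del.Stein

/-!
# Alternating groups in `Ω₁₀^±(q)` (helper964)

`o10_alt` : `H` maximal in `omegaGL Q`, `dim = 10`, with residual core `P ≃ A_m`, `m ≥ 8`: then `m = 11`,
`p ≠ 2, 3, 11`, `|F| = p`, or `m = 12`, `p = 2, 3`, `|F| = p`.
-/

set_option autoImplicit false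
set_option linter.unusedSectionVars false

namespace Cfsg.Agent.H964.AltMod

open Equiv Equiv.Perm Cfsg Cfsg.Geo Matrix
open Cfsg.Agent.H614.AMod Cfsg.Agent.H882.Del Cfsg.Agent.H915.LD Cfsg.Agent.H933.O10

universe u

variable {F : Type u} [Field F] {p : ℕ} {Q : (Fin 10 → F) → F} {H P : Subgroup (GL (Fin 10) F)} {m : ℕ}

/-- in characteristic 2 there are no scalars -/
theorem scalars_eq_bot_two (h : Cx p Q H P) (h2 : (2 : F) = 0) : (scalars (Fin 10) F).subgroupOf P = ⊥ := by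
  rw [Subgroup.eq_bot_iff_forall]
  intro g hg
  rw [Subgroup.mem_subgroupOf, mem_scalars_iff] at hg
  obtain ⟨c, hc⟩ := hg
  have hc' : ((g : GL (Fin 10) F) : Matrix (Fin 10) (Fin 10) F) = (c : F) • (1 : Matrix (Fin 10) (Fin 10) F) := by
    rw [hc]
  have h1 := h.scalar_sq g.2 hc'
  have h3 : ((c : F) - 1) ^ 2 = 0 := by
    have : ((c : F) - 1) ^ 2 = (c : F) ^ 2 - 2 * (c : F) + 1 := by ring
    rw [this, h1, h2, zero_mul, sub_zero, one_add_one_eq_two, h2]
  have h4 : (c : F) = 1 := sub_eq_zero.1 (pow_eq_zero_iff (two_ne_zero) |>.1 h3)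
  apply Subtype.ext
  apply Units.ext
  rw [hc', h4, one_smul]
  rfl

section

variable [Finite F]

/-- **The kill of `A₁₁` in characteristic 2 and 3.** -/
theorem eleven_char (h : Cx p Q H P) (φ : P ≃* alternatingGroup (Fin 11)) {w : Fin 11 → Fin 11 → (Fin 10 → F)}
    (N : NatM (rep φ) w) (hm : (11 : F) ≠ 0) : (2 : F) ≠ 0 ∧ (3 : F) ≠ 0 := by
  have h8 : 8 ≤ Fintype.card (Fin 11) := by rw [Fintype.card_fin]; norm_num
  have S : Sys F (NatM.vec w) := N.sys_of_ne h8 (by rw [Fintype.card_fin]; exact_mod_cast hm)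
  have hact : ∀ (g : P) (i : Fin 11), ((g : GL (Fin 10) F) : Matrix (Fin 10) (Fin 10) F) *ᵥ NatM.vec w i =
      NatM.vec w (((φ g : alternatingGroup (Fin 11)) : Perm (Fin 11)) i) := by
    intro g i
    rw [← rep_apply' φ g, N.act_vec]
  have htrans : ∀ i j : Fin 11, ∃ g : alternatingGroup (Fin 11), (g : Perm (Fin 11)) i = j := by
    intro i j
    obtain ⟨k, hk⟩ := exists_notMem (α := Fin 11) (l := [i]) (by simp)
    obtain ⟨l, hl⟩ := exists_notMem (α := Fin 11) (l := [j]) (by simp)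
    simp only [List.mem_cons, List.not_mem_nil, or_false] at hk hl
    obtain ⟨g, hg, -⟩ := exists_g h8 (Ne.symm hk) (Ne.symm hl)
    exact ⟨g, hg⟩
  -- the point stabiliser
  let K : Subgroup P := (MulAction.stabilizer (alternatingGroup (Fin 11)) (0 : Fin 11)).comap φ.toMonoidHom
  have hKmem : ∀ g : P, g ∈ K ↔ ((φ g : alternatingGroup (Fin 11)) : Perm (Fin 11)) 0 = 0 := fun g => Iff.rfl
  have hK : K.index = 11 := by
    rw [Subgroup.index_comap_of_surjective _ φ.surjective]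
    have hp : MulAction.IsPretransitive (alternatingGroup (Fin 11)) (Fin 11) := ⟨fun x y => htrans x y⟩
    rw [MulAction.index_stabilizer_of_transitive, Nat.card_eq_fintype_card, Fintype.card_fin]
  have hdc : ∀ g ∉ K, ∀ g' ∉ K, ∃ k ∈ K, ∃ k' ∈ K, g' = k * g * k' := by
    intro g hg g' hg'
    rw [hKmem] at hg hg'
    obtain ⟨a, ha0, ha⟩ := exists_g h8 (Ne.symm hg) (Ne.symm hg')
    obtain ⟨k, rfl⟩ := φ.surjective a
    refine ⟨k, (hKmem k).2 ha0, (k * g)⁻¹ * g', ?_, by group⟩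
    rw [hKmem, map_mul, map_inv, map_mul]
    change ((φ k : Perm (Fin 11)) * (φ g : Perm (Fin 11)))⁻¹ ((φ g' : Perm (Fin 11)) 0) = 0
    rw [Perm.inv_eq_iff_eq, Perm.mul_apply, ha]
  have hl : ∀ x ∈ H, ∃ g ∈ P, ∃ c : F, (x : Matrix (Fin 10) (Fin 10) F) *ᵥ NatM.vec w 0 =
      c • ((g : Matrix (Fin 10) (Fin 10) F) *ᵥ NatM.vec w 0) := by
    intro x hx
    have hN' : Cfsg.Agent.H114.AltNat.NatM (Cfsg.Agent.H114.AltNat.rep (Cfsg.Agent.H114.AltNat.th φ.symm)) w :=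
      ⟨N.anti, N.tri, fun g i j => N.act g i j, N.span, N.ne⟩
    have hspan : Submodule.span F (Set.range fun g => (Cfsg.Agent.H114.AltNat.th φ.symm g : Matrix (Fin 10) (Fin 10) F)) = ⊤ :=
      span_of_core h.core (ρ := Cfsg.Agent.H114.AltNat.th φ.symm) (by
        unfold Cfsg.Agent.H114.AltNat.th
        rw [MonoidHom.range_comp, MulEquiv.toMonoidHom_eq_coe, MonoidHom.range_eq_top.2 φ.symm.surjective,
          ← MonoidHom.range_eq_map, Subgroup.range_subtype])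
    obtain ⟨σ, c, hσ⟩ := Cfsg.Agent.H114.AltNat.lines (m := 11) (by norm_num) (by norm_num) φ.symm hspan hN' S
      (h := x) (fun y hy => h.hc.normal x hx y hy)
    obtain ⟨a, ha⟩ := htrans 0 (σ 0)
    obtain ⟨g, rfl⟩ := φ.surjective a
    refine ⟨g, g.2, c, ?_⟩
    rw [hact, ha]
    exact hσ 0
  obtain ⟨-, -, h2, h3⟩ := h.eleven hK (v0 := NatM.vec w 0) (S.ne_zero 0) (fun k hk => by
    rw [hact, (hKmem k).1 hk]) hdc hl
  exact ⟨h2, h3⟩

variable [Fintype F]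

/-- **Alternating groups, the natural modules.** -/
theorem o10_nat (h : Cx p Q H P) (h8 : 8 ≤ m) (φ : P ≃* alternatingGroup (Fin m)) (hD : Indep (rep φ)) :
    (m = 11 ∧ p ≠ 2 ∧ p ≠ 3 ∧ p ≠ 11 ∧ Fintype.card F = p) ∨ (m = 12 ∧ (p = 2 ∨ p = 3) ∧ Fintype.card F = p) := by
  have hch := h.char
  have hp : Fact p.Prime := ⟨h.prime⟩
  have h8' : 8 ≤ Fintype.card (Fin m) := by rwa [Fintype.card_fin]
  obtain ⟨w, N⟩ := exists_natM φ h.core h8' hD
  have hF : Fintype.card F = p := card_eq h.core h8' N p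
  have hnat : ∀ k : ℕ, k ≠ 0 → (k : F) ≠ 0 → p ≠ k := by
    intro k _ hk e
    apply hk
    rw [← e]
    exact CharP.cast_eq_zero F p
  rcases dim_cases h.core h8' N with ⟨h0, h1⟩ | ⟨h0, h1⟩
  · rw [Fintype.card_fin, Fintype.card_fin] at h1
    rw [Fintype.card_fin] at h0
    subst h1
    obtain ⟨h2, h3⟩ := eleven_char h φ N (by exact_mod_cast h0)
    exact Or.inl ⟨rfl, hnat 2 (by norm_num) (by exact_mod_cast h2), hnat 3 (by norm_num) (by exact_mod_cast h3),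
      hnat 11 (by norm_num) h0, hF⟩
  · rw [Fintype.card_fin, Fintype.card_fin] at h1
    rw [Fintype.card_fin] at h0
    subst h1
    refine Or.inr ⟨rfl, ?_, hF⟩
    have h2 : p ∣ 12 := (CharP.cast_eq_zero_iff F p 12).1 h0
    have h3 : p ∣ 2 * (2 * 3) := h2
    rcases (h.prime.dvd_mul).1 h3 with h4 | h4
    · exact Or.inl ((Nat.prime_dvd_prime_iff_eq h.prime Nat.prime_two).1 h4)
    · rcases (h.prime.dvd_mul).1 h4 with h5 | h5
      · exact Or.inl ((Nat.prime_dvd_prime_iff_eq h.prime Nat.prime_two).1 h5)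
      · exact Or.inr ((Nat.prime_dvd_prime_iff_eq h.prime Nat.prime_three).1 h5)

theorem indep_rep (h8 : 8 ≤ m) (φ : P ≃* alternatingGroup (Fin m)) (h : (2 : F) ≠ 0 ∨ 10 ≤ m) : Indep (rep φ) := by
  rcases h with h | h
  · exact indep_odd (by rwa [Fintype.card_fin]) h (by rw [Module.finrank_fintype_fun_eq_card, Fintype.card_fin]; norm_num)
  · by_cases h2 : (2 : F) = 0
    · refine indep_ten (by rwa [Fintype.card_fin]) ?_ (by rw [Module.finrank_fintype_fun_eq_card, Fintype.card_fin]; norm_num)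
      have : (5 : F) = 2 * 2 + 1 := by norm_num
      rw [this, h2, zero_mul, zero_add]
      exact one_ne_zero
    · exact indep_odd (by rwa [Fintype.card_fin]) h2 (by rw [Module.finrank_fintype_fun_eq_card, Fintype.card_fin]; norm_num)

/-- `o10_alt` without scalars, outside `(p, m) = (2, 8), (2, 9)` -/
theorem o10_alt_core (h : Cx p Q H P) (h8 : 8 ≤ m) (hZ : (scalars (Fin 10) F).subgroupOf P = ⊥)
    (h2 : (2 : F) ≠ 0 ∨ 10 ≤ m) (e : Soc P ≃* alternatingGroup (Fin m)) :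
    (m = 11 ∧ p ≠ 2 ∧ p ≠ 3 ∧ p ≠ 11 ∧ Fintype.card F = p) ∨ (m = 12 ∧ (p = 2 ∨ p = 3) ∧ Fintype.card F = p) := by
  obtain ⟨φ⟩ := equivOfSoc hZ e
  exact o10_nat h h8 φ (indep_rep h8 φ h2)

/-- **Alternating groups of degree at least 8 in `Ω₁₀^±(q)`.** -/
theorem o10_alt (h : Cx p Q H P) (h8 : 8 ≤ m) (h82 : ¬ (p = 2 ∧ m = 8)) (e : Soc P ≃* alternatingGroup (Fin m)) :
    (m = 11 ∧ p ≠ 2 ∧ p ≠ 3 ∧ p ≠ 11 ∧ Fintype.card F = p) ∨ (m = 12 ∧ (p = 2 ∨ p = 3) ∧ Fintype.card F = p) := by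
  have hch := h.char
  have hp : Fact p.Prime := ⟨h.prime⟩
  have hZ : (scalars (Fin 10) F).subgroupOf P = ⊥ :=
    Cfsg.Agent.H825.Spin.scalars_eq_bot h.core p e h8 (by rw [Fintype.card_fin]; norm_num)
      (by rw [Fintype.card_fin]; norm_num)
  obtain ⟨φ⟩ := equivOfSoc hZ e
  by_cases h2 : (2 : F) ≠ 0 ∨ 10 ≤ m
  · exact o10_nat h h8 φ (indep_rep h8 φ h2)
  · push Not at h2
    obtain ⟨h2, h10⟩ := h2
    have hp2 : p = 2 := by
      have h3 : p ∣ 2 := (CharP.cast_eq_zero_iff F p 2).1 (by exact_mod_cast h2)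
      exact (Nat.prime_dvd_prime_iff_eq h.prime Nat.prime_two).1 h3
    have hm : 9 ≤ m := by
      by_contra hc
      exact h82 ⟨hp2, by omega⟩
    have h3 : ((3 : ℕ) : F) ≠ 0 := by
      have : ((3 : ℕ) : F) = 2 + 1 := by norm_num
      rw [this, h2, zero_add]
      exact one_ne_zero
    obtain ⟨a, v, hv⟩ := exists_move_rep φ h.core
    rcases nine (by rwa [Fintype.card_fin]) h3
      (by rw [Module.finrank_fintype_fun_eq_card, Fintype.card_fin]; norm_num) (irr_rep φ h.core) hv with h4 | ⟨h4, -⟩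
    · exact o10_nat h h8 φ h4
    · rw [Module.finrank_fintype_fun_eq_card, Fintype.card_fin] at h4
      omega

end

end Cfsg.Agent.H964.AltMod
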