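import Cfsg.Agent.H614.AMod.Natural
import Cfsg.Agent.H882.Del.Basic

/-!
# The natural module of the alternating group: dimension and generators (helper964)

`NatM ρ F` : `V` is spanned by the vectors `F i j` (`= e_i - e_j`);
* `NatM.sys_of_ne` : `m ≠ 0` in `K` : `v i = ∑ j, F i j` : `dim V = m - 1`;
* `NatM.sys_of_eq` : `m = 0` in `K` : `v i = F i o`, `i ≠ o` : `dim V = m - 2`.
-/

set_option autoImplicit false
set_option linter.unusedSectionVars false

namespace Cfsg.Agent.H964.AltMod

open Equiv Equiv.Perm Cfsg.Agent.H614.AMod Cfsg.Agent.H882.Del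

section sys

variable {K V : Type*} [Field K] [AddCommGroup V] [Module K V] [FiniteDimensional K V] [Nontrivial V]
variable {ι : Type*} [Fintype ι] [DecidableEq ι] {v : ι → V}

/-- spanning vectors with sum zero and no other relation form a `Sys` -/
theorem sys_of_rel (hs : Submodule.span K (Set.range v) = ⊤) (h0 : ∑ i, v i = 0)
    (hr : ∀ c : ι → K, ∑ i, c i • v i = 0 → ∀ i j, c i = c j) : Sys K v := by
  have hne : Nonempty ι := by
    by_contra h
    rw [not_nonempty_iff] at h
    rw [Set.range_eq_empty, Submodule.span_empty] at hs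
    exact bot_ne_top hs
  obtain ⟨i0⟩ := hne
  let Φ : (ι → K) →ₗ[K] V := Fintype.linearCombination K v
  have hΦ : ∀ c, Φ c = ∑ i, c i • v i := fun c => rfl
  have hsurj : LinearMap.range Φ = ⊤ := by
    rw [← hs]
    exact Fintype.range_linearCombination K v
  have h1 := LinearMap.finrank_range_add_finrank_ker Φ
  rw [hsurj, finrank_top, Module.finrank_fintype_fun_eq_card] at h1
  have h2 : Module.finrank K (LinearMap.ker Φ) = 1 := by
    have hmem : (fun _ : ι => (1 : K)) ∈ LinearMap.ker Φ := by
      rw [LinearMap.mem_ker, hΦ]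
      simp only [one_smul]
      exact h0
    refine (finrank_eq_one_iff_of_nonzero' (⟨_, hmem⟩ : LinearMap.ker Φ) ?_).2 ?_
    · intro h
      exact one_ne_zero (congrFun (congrArg Subtype.val h) i0)
    · rintro ⟨c, hc⟩
      rw [LinearMap.mem_ker, hΦ] at hc
      refine ⟨c i0, ?_⟩
      ext i
      have := hr c hc i i0
      simp [this]
  exact ⟨hs, by omega, Module.finrank_pos, h0⟩

end sys

variable {α : Type*} [Fintype α] [DecidableEq α]
variable {K V : Type*} [Field K] [AddCommGroup V] [Module K V] [FiniteDimensional K V]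

/-- the vectors `F i j` of the natural module -/
structure NatM (ρ : Representation K (alternatingGroup α) V) (F : α → α → V) : Prop where
  anti : ∀ i j, F j i = -F i j
  tri : ∀ i j k, F i j + F j k = F i k
  act : ∀ (g : alternatingGroup α) i j, ρ g (F i j) = F ((g : Perm α) i) ((g : Perm α) j)
  span : Submodule.span K (Set.range fun p : α × α => F p.1 p.2) = ⊤
  ne : ∃ i j, F i j ≠ 0

/-- `x → y → z → x` -/
def cyc (x y z : α) (h1 : x ≠ y) (h2 : y ≠ z) : alternatingGroup α := ⟨swap x y * swap y z, by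
  rw [mem_alternatingGroup, Perm.sign_mul, sign_swap h1, sign_swap h2]; decide⟩

theorem cyc_fst {x y z : α} (h1 : x ≠ y) (h2 : y ≠ z) (h3 : x ≠ z) : ((cyc x y z h1 h2 : alternatingGroup α) : Perm α) x = y := by
  change swap x y (swap y z x) = y
  rw [swap_apply_of_ne_of_ne h1 h3, swap_apply_left]

theorem cyc_snd {x y z : α} (h1 : x ≠ y) (h2 : y ≠ z) (h3 : x ≠ z) : ((cyc x y z h1 h2 : alternatingGroup α) : Perm α) y = z := by
  change swap x y (swap y z y) = z
  rw [swap_apply_left, swap_apply_of_ne_of_ne h3.symm h2.symm]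

theorem cyc_thd {x y z : α} (h1 : x ≠ y) (h2 : y ≠ z) : ((cyc x y z h1 h2 : alternatingGroup α) : Perm α) z = x := by
  change swap x y (swap y z z) = x
  rw [swap_apply_right, swap_apply_right]

theorem cyc_of_ne {x y z w : α} (h1 : x ≠ y) (h2 : y ≠ z) (hx : w ≠ x) (hy : w ≠ y) (hz : w ≠ z) :
    ((cyc x y z h1 h2 : alternatingGroup α) : Perm α) w = w := by
  change swap x y (swap y z w) = w
  rw [swap_apply_of_ne_of_ne hy hz, swap_apply_of_ne_of_ne hx hy]

/-- a point outside a small list -/
theorem exists_notMem {l : List α} (h : l.length < Fintype.card α) : ∃ w, w ∉ l := by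
  by_contra hc
  push Not at hc
  have h1 : (Finset.univ : Finset α) ⊆ l.toFinset := fun x _ => List.mem_toFinset.2 (hc x)
  have h2 := Finset.card_le_card h1
  rw [Finset.card_univ] at h2
  exact absurd (h2.trans (List.toFinset_card_le l)) (by omega)

/-- two-transitivity -/
theorem exists_g (h8 : 8 ≤ Fintype.card α) {x y x' y' : α} (h : x ≠ y) (h' : x' ≠ y') :
    ∃ g : alternatingGroup α, (g : Perm α) x = x' ∧ (g : Perm α) y = y' := by
  obtain ⟨g, hg⟩ := exists_move (k := 2) (by omega) (emb2 x y h) (emb2 x' y' h')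
  have h0 := hg 0
  have h1 := hg 1
  exact ⟨g, h0, h1⟩

namespace NatM

variable {ρ : Representation K (alternatingGroup α) V} {F : α → α → V}

theorem self (N : NatM ρ F) (i : α) : F i i = 0 := by
  have h := N.tri i i i
  exact add_eq_right.1 h

theorem ne_zero (N : NatM ρ F) (h8 : 8 ≤ Fintype.card α) {x y : α} (h : x ≠ y) : F x y ≠ 0 := by
  obtain ⟨i, j, hij⟩ := N.ne
  have hij' : i ≠ j := by
    rintro rfl
    exact hij (N.self i)
  obtain ⟨g, h1, h2⟩ := exists_g h8 h hij'
  intro h0
  have h3 := N.act g x y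
  rw [h0, map_zero, h1, h2] at h3
  exact hij h3.symm

/-- the only relation between the `F i o` with coefficient sum zero is the constant one -/
theorem rel (N : NatM ρ F) (h8 : 8 ≤ Fintype.card α) {c : α → K} (hc : ∑ i, c i = 0) {o : α}
    (h : ∑ i, c i • F i o = 0) (y z : α) : c y = c z := by
  -- independence of the base point
  have hbase : ∀ o', ∑ i, c i • F i o' = 0 := by
    intro o'
    have h1 : ∀ i, c i • F i o' = c i • F i o + c i • F o o' := fun i => by rw [← smul_add, N.tri]
    rw [Finset.sum_congr rfl fun i _ => h1 i, Finset.sum_add_distrib, h, ← Finset.sum_smul, hc, zero_smul, add_zero]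
  -- the relation for a group element
  have hrel : ∀ t : alternatingGroup α, ∑ i, c i • F ((t : Perm α) i) i = 0 := by
    intro t
    have h1 : ∑ i, c i • F ((t : Perm α) i) ((t : Perm α) o) = 0 := by
      have h2 := congrArg (ρ t) (hbase o)
      rw [map_zero, map_sum] at h2
      rw [← h2]
      exact Finset.sum_congr rfl fun i _ => by rw [map_smul, N.act]
    have h2 : ∀ i, c i • F ((t : Perm α) i) i = c i • F ((t : Perm α) i) ((t : Perm α) o) - c i • F i ((t : Perm α) o) := by
      intro i
      rw [← smul_sub]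
      congr 1
      rw [← N.tri ((t : Perm α) i) ((t : Perm α) o) i, N.anti i ((t : Perm α) o), sub_eq_add_neg]
    rw [Finset.sum_congr rfl fun i _ => h2 i, Finset.sum_sub_distrib, h1, hbase, sub_zero]
  -- three points
  have hthree : ∀ x y z : α, x ≠ y → y ≠ z → x ≠ z → (c x - c z) • F y x + (c y - c z) • F z y = 0 := by
    intro x y z h1 h2 h3
    have h4 := hrel (cyc x y z h1 h2)
    have h5 : ∑ i, c i • F (((cyc x y z h1 h2 : alternatingGroup α) : Perm α) i) i =
        ∑ i ∈ {x, y, z}, c i • F (((cyc x y z h1 h2 : alternatingGroup α) : Perm α) i) i := by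
      symm
      apply Finset.sum_subset (Finset.subset_univ _)
      intro w _ hw
      simp only [Finset.mem_insert, Finset.mem_singleton, not_or] at hw
      rw [cyc_of_ne h1 h2 hw.1 hw.2.1 hw.2.2, N.self, smul_zero]
    rw [h5, Finset.sum_insert (by simp [h1, h3]), Finset.sum_insert (by simp [h2]), Finset.sum_singleton,
      cyc_fst h1 h2 h3, cyc_snd h1 h2 h3, cyc_thd h1 h2, N.anti z x, ← N.tri z y x] at h4
    rw [← h4, sub_smul, sub_smul, smul_neg, smul_add]
    abel
  by_cases hyz : y = z
  · rw [hyz]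
  obtain ⟨x, hx⟩ := exists_notMem (l := [y, z]) (by simp only [List.length_cons, List.length_nil]; omega)
  simp only [List.mem_cons, List.not_mem_nil, or_false, not_or] at hx
  obtain ⟨w, hw⟩ := exists_notMem (l := [x, y, z]) (by simp only [List.length_cons, List.length_nil]; omega)
  simp only [List.mem_cons, List.not_mem_nil, or_false, not_or] at hw
  obtain ⟨u, hu⟩ := exists_notMem (l := [x, y, z, w]) (by simp only [List.length_cons, List.length_nil]; omega)
  simp only [List.mem_cons, List.not_mem_nil, or_false, not_or] at hu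
  have h1 := hthree x y z hx.1 hyz hx.2
  -- `z → w → u → z` fixes `x` and `y`
  have h2 := congrArg (ρ (cyc z w u (Ne.symm hw.2.2) (Ne.symm hu.2.2.2))) h1
  rw [map_zero, map_add, map_smul, map_smul, N.act, N.act, cyc_fst (Ne.symm hw.2.2) (Ne.symm hu.2.2.2)
    (Ne.symm hu.2.2.1), cyc_of_ne (Ne.symm hw.2.2) (Ne.symm hu.2.2.2) hyz (Ne.symm hw.2.1) (Ne.symm hu.2.1),
    cyc_of_ne (Ne.symm hw.2.2) (Ne.symm hu.2.2.2) hx.2 (Ne.symm hw.1) (Ne.symm hu.1)] at h2
  have h3 : (c y - c z) • F z w = 0 := by
    have h4 : F z w = F z y - F w y := by rw [← N.tri z y w, N.anti w y, sub_eq_add_neg]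
    rw [h4, smul_sub]
    have h5 := h1
    rw [← h2] at h5
    exact sub_eq_zero.2 (add_left_cancel h5)
  rcases smul_eq_zero.1 h3 with h4 | h4
  · exact sub_eq_zero.1 h4
  · exact absurd h4 (N.ne_zero h8 (Ne.symm hw.2.2))

theorem nontrivial (N : NatM ρ F) : Nontrivial V := by
  obtain ⟨i, j, h⟩ := N.ne
  exact ⟨⟨_, _, h⟩⟩

/-- `v i = ∑ j, F i j` -/
def vec (F : α → α → V) (i : α) : V := ∑ j, F i j

theorem vec_sub (N : NatM ρ F) (i k : α) : vec F i - vec F k = (Fintype.card α : K) • F i k := by
  unfold vec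
  rw [← Finset.sum_sub_distrib]
  have h1 : ∀ j, F i j - F k j = F i k := fun j => by
    rw [← N.tri i j k, N.anti k j, sub_eq_add_neg]
  rw [Finset.sum_congr rfl fun j _ => h1 j, Finset.sum_const, Finset.card_univ, Nat.cast_smul_eq_nsmul]

theorem sum_vec (N : NatM ρ F) : ∑ i, vec F i = 0 := by
  unfold vec
  -- `F i j = F i o - F j o`
  rcases isEmpty_or_nonempty α with h | ⟨⟨o⟩⟩
  · simp
  · have h1 : ∀ i j, F i j = F i o - F j o := fun i j => by rw [← N.tri i j o]; abel
    have h2 : ∀ i, ∑ j, F i j = (Fintype.card α) • F i o - ∑ j, F j o := fun i => by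
      rw [Finset.sum_congr rfl fun j _ => h1 i j, Finset.sum_sub_distrib, Finset.sum_const, Finset.card_univ]
    rw [Finset.sum_congr rfl fun i _ => h2 i, Finset.sum_sub_distrib, Finset.sum_const, Finset.card_univ,
      ← Finset.smul_sum, sub_self]

theorem act_vec (N : NatM ρ F) (g : alternatingGroup α) (i : α) : ρ g (vec F i) = vec F ((g : Perm α) i) := by
  unfold vec
  rw [map_sum, Finset.sum_congr rfl fun j _ => N.act g i j]
  exact Equiv.sum_comp (g : Perm α) fun j => F ((g : Perm α) i) j

/-- **The natural module, `m ≠ 0` in `K`.** -/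
theorem sys_of_ne (N : NatM ρ F) (h8 : 8 ≤ Fintype.card α) (hm : (Fintype.card α : K) ≠ 0) : Sys K (vec F) := by
  have := N.nontrivial
  refine sys_of_rel ?_ N.sum_vec ?_
  · rw [eq_top_iff, ← N.span, Submodule.span_le]
    rintro _ ⟨⟨i, j⟩, rfl⟩
    have h1 : F i j = (Fintype.card α : K)⁻¹ • (vec F i - vec F j) := by
      rw [N.vec_sub, smul_smul, inv_mul_cancel₀ hm, one_smul]
    change F i j ∈ _
    rw [h1]
    exact Submodule.smul_mem _ _ (Submodule.sub_mem _ (Submodule.subset_span ⟨i, rfl⟩) (Submodule.subset_span ⟨j, rfl⟩))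
  · intro c hc i j
    have h1 : ∑ k, ((Fintype.card α : K) * c k - ∑ l, c l) • F k i = 0 := by
      have h2 : ∀ k, vec F k = (Fintype.card α : K) • F k i - ∑ l, F l i := by
        intro k
        unfold vec
        have h3 : ∀ l, F k l = F k i - F l i := fun l => by rw [← N.tri k l i]; abel
        rw [Finset.sum_congr rfl fun l _ => h3 l, Finset.sum_sub_distrib, Finset.sum_const, Finset.card_univ,
          Nat.cast_smul_eq_nsmul]
      rw [Finset.sum_congr rfl fun k _ => by rw [h2 k]] at hc
      simp only [smul_sub, smul_smul, Finset.sum_sub_distrib] at hc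
      simp only [sub_smul, Finset.sum_sub_distrib]
      rw [← hc]
      congr 1
      · exact Finset.sum_congr rfl fun k _ => by rw [mul_comm]
      · rw [← Finset.sum_smul, Finset.smul_sum]
    have h2 := N.rel h8 (c := fun k => (Fintype.card α : K) * c k - ∑ l, c l) (by
      rw [Finset.sum_sub_distrib, ← Finset.mul_sum, Finset.sum_const, Finset.card_univ, nsmul_eq_mul, sub_self]) h1 i j
    exact mul_left_cancel₀ hm (sub_left_injective h2)

theorem vec_eq_zero (N : NatM ρ F) (h8 : 8 ≤ Fintype.card α) (hm : (Fintype.card α : K) = 0) (hirr : Irr ρ) (i : α) :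
    vec F i = 0 := by
  have h1 : ∀ j, vec F j = vec F i := fun j => by
    have := N.vec_sub j i
    rw [hm, zero_smul] at this
    exact sub_eq_zero.1 this
  have h2 : vec F i ∈ fixV ρ := fun g => by rw [N.act_vec, h1]
  obtain ⟨x, hx⟩ := exists_notMem (l := [i]) (by simp only [List.length_cons, List.length_nil]; omega)
  simp only [List.mem_cons, List.not_mem_nil, or_false] at hx
  obtain ⟨y, hy⟩ := exists_notMem (l := [i, x]) (by simp only [List.length_cons, List.length_nil]; omega)
  simp only [List.mem_cons, List.not_mem_nil, or_false, not_or] at hy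
  obtain ⟨g, hg1, hg2⟩ := exists_g h8 (x := i) (y := x) (x' := i) (y' := y) (Ne.symm hx) (Ne.symm hy.1)
  have h3 : ρ g (F i x) ≠ F i x := by
    rw [N.act, hg1, hg2]
    intro h
    have h4 := N.tri i x y
    rw [h, add_eq_left] at h4
    exact N.ne_zero h8 (Ne.symm hy.2) h4
  rw [fixV_eq_bot ρ hirr h3, Submodule.mem_bot] at h2
  exact h2

/-- **The natural module, `m = 0` in `K`.** -/
theorem sys_of_eq (N : NatM ρ F) (h8 : 8 ≤ Fintype.card α) (hm : (Fintype.card α : K) = 0) (hirr : Irr ρ) (o : α) :
    Sys K (fun i : {i : α // i ≠ o} => F i o) := by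
  have := N.nontrivial
  have hsum : ∀ f : α → V, f o = 0 → ∑ i : {i : α // i ≠ o}, f i = ∑ i, f i := by
    intro f hf
    rw [← Finset.sum_subtype (Finset.univ.erase o) (fun x => by simp) f]
    exact Finset.sum_erase _ hf
  refine sys_of_rel ?_ ?_ ?_
  · rw [eq_top_iff, ← N.span, Submodule.span_le]
    have hmem : ∀ i, F i o ∈ Submodule.span K (Set.range fun i : {i : α // i ≠ o} => F i o) := by
      intro i
      by_cases h : i = o
      · rw [h, N.self]; exact Submodule.zero_mem _
      · exact Submodule.subset_span ⟨⟨i, h⟩, rfl⟩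
    rintro _ ⟨⟨i, j⟩, rfl⟩
    change F i j ∈ _
    have h1 : F i j = F i o - F j o := by rw [← N.tri i j o]; abel
    rw [h1]
    exact Submodule.sub_mem _ (hmem i) (hmem j)
  · rw [hsum (fun i => F i o) (N.self o)]
    have h1 := N.vec_eq_zero h8 hm hirr o
    unfold vec at h1
    have h2 : ∑ i, F i o = -∑ j, F o j := by
      rw [← Finset.sum_neg_distrib]
      exact Finset.sum_congr rfl fun j _ => N.anti o j
    rw [h2, h1, neg_zero]
  · intro c hc i j
    let c' : α → K := fun x => if h : x ≠ o then c ⟨x, h⟩ else -∑ k, c k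
    have hc' : ∀ x : {i : α // i ≠ o}, c' x = c x := fun x => dif_pos x.2
    have hco : c' o = -∑ k, c k := dif_neg (by simp)
    have h1 : ∑ x, c' x = 0 := by
      rw [← Finset.add_sum_erase _ _ (Finset.mem_univ o), hco,
        Finset.sum_subtype (Finset.univ.erase o) (p := fun x => x ≠ o) (fun x => by simp) c',
        Finset.sum_congr rfl fun x _ => hc' x, neg_add_cancel]
    have h2 : ∑ x, c' x • F x o = 0 := by
      rw [← hsum (fun x => c' x • F x o) (by rw [N.self, smul_zero]), ← hc]
      exact Finset.sum_congr rfl fun x _ => by rw [hc']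
    have h3 := N.rel h8 h1 h2 (i : α) (j : α)
    rwa [hc', hc'] at h3

theorem finrank_of_ne (N : NatM ρ F) (h8 : 8 ≤ Fintype.card α) (hm : (Fintype.card α : K) ≠ 0) :
    Module.finrank K V + 1 = Fintype.card α := (N.sys_of_ne h8 hm).card.symm

theorem finrank_of_eq (N : NatM ρ F) (h8 : 8 ≤ Fintype.card α) (hm : (Fintype.card α : K) = 0) (hirr : Irr ρ) :
    Module.finrank K V + 2 = Fintype.card α := by
  obtain ⟨o⟩ : Nonempty α := Fintype.card_pos_iff.1 (by omega)
  have h := (N.sys_of_eq h8 hm hirr o).card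
  rw [Fintype.card_subtype_compl, Fintype.card_subtype_eq] at h
  omega

end NatM

end Cfsg.Agent.H964.AltMod
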