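import Cfsg.Agent.H964.AltMod.Dim

/-!
# The natural module of the alternating group: traces (helper964)

* `sys_trace` : `f (v i) = v (σ i)` : the trace of `f` is `#fix σ - 1`;
* `NatM.trace_of_ne`, `NatM.trace_of_eq` : the trace of `ρ g` is `#fix g - 1` resp. `#fix g - 2`.
-/

set_option autoImplicit false
set_option linter.unusedSectionVars false

namespace Cfsg.Agent.H964.AltMod

open Equiv Equiv.Perm Cfsg.Agent.H614.AMod Cfsg.Agent.H882.Del

section

variable {K V : Type*} [Field K] [AddCommGroup V] [Module K V] [FiniteDimensional K V]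
variable {ι : Type*} [Fintype ι] [DecidableEq ι] {v : ι → V}

/-- the number of fixed points -/
def fix (σ : Perm ι) : ℕ := (Finset.univ.filter fun i => σ i = i).card

theorem fix_inv (σ : Perm ι) : fix σ⁻¹ = fix σ := by
  unfold fix
  congr 1
  ext i
  simp only [Finset.mem_filter, Finset.mem_univ, true_and]
  rw [Perm.inv_eq_iff_eq]
  exact eq_comm

/-- linear independence of all but one of the vectors of a `Sys` -/
theorem sys_li (S : Sys K v) (o : ι) : LinearIndependent K (fun i : {i : ι // i ≠ o} => v i) := by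
  rw [Fintype.linearIndependent_iff]
  intro c hc i
  let c' : ι → K := fun x => if h : x ≠ o then c ⟨x, h⟩ else 0
  have hc' : ∀ x : {i : ι // i ≠ o}, c' x = c x := fun x => dif_pos x.2
  have hco : c' o = 0 := dif_neg (by simp)
  have h1 : ∑ x, c' x • v x = 0 := by
    rw [← Finset.add_sum_erase _ _ (Finset.mem_univ o), hco, zero_smul, zero_add,
      Finset.sum_subtype (Finset.univ.erase o) (p := fun x => x ≠ o) (fun x => by simp) (fun x => c' x • v x), ← hc]
    exact Finset.sum_congr rfl fun x _ => by rw [hc']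
  have h2 := S.rel h1 (i : ι) o
  rw [hc', hco] at h2
  exact h2

theorem sys_eq_neg (S : Sys K v) (o : ι) : v o = -∑ i : {i : ι // i ≠ o}, v i := by
  have h := S.sum
  rw [← Finset.add_sum_erase _ _ (Finset.mem_univ o),
    Finset.sum_subtype (Finset.univ.erase o) (p := fun x => x ≠ o) (fun x => by simp) v] at h
  exact eq_neg_of_add_eq_zero_left h

/-- the basis `v i`, `i ≠ o` -/
noncomputable def sysBasis (S : Sys K v) (o : ι) : Module.Basis {i : ι // i ≠ o} K V :=
  Module.Basis.mk (sys_li S o) (by
    rw [← S.span, Submodule.span_le]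
    rintro _ ⟨i, rfl⟩
    by_cases h : i = o
    · rw [h, sys_eq_neg S o]
      exact Submodule.neg_mem _ (Submodule.sum_mem _ fun j _ => Submodule.subset_span ⟨j, rfl⟩)
    · exact Submodule.subset_span ⟨⟨i, h⟩, rfl⟩)

theorem sysBasis_apply (S : Sys K v) (o : ι) (i : {i : ι // i ≠ o}) : sysBasis S o i = v i := by
  unfold sysBasis
  rw [Module.Basis.mk_apply]

theorem sysBasis_repr (S : Sys K v) (o : ι) (j : ι) (i : {i : ι // i ≠ o}) :
    (sysBasis S o).repr (v j) i = (if j = i then 1 else 0) - (if j = o then 1 else 0) := by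
  by_cases h : j = o
  · subst h
    have h1 : v j = -∑ i : {i : ι // i ≠ j}, sysBasis S j i := by
      rw [sys_eq_neg S j]
      exact congrArg _ (Finset.sum_congr rfl fun i _ => by rw [sysBasis_apply])
    rw [h1, map_neg, map_sum, Finsupp.neg_apply, Finsupp.finsetSum_apply, if_neg (fun h => i.2 h.symm), if_pos rfl,
      zero_sub, Finset.sum_eq_single i]
    · rw [Module.Basis.repr_self, Finsupp.single_eq_same]
    · intro k _ hk
      rw [Module.Basis.repr_self, Finsupp.single_eq_of_ne (by first | exact hk | exact hk.symm)]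
    · exact fun h => absurd (Finset.mem_univ _) h
  · rw [if_neg h, sub_zero, show v j = sysBasis S o ⟨j, h⟩ from (sysBasis_apply S o ⟨j, h⟩).symm,
      Module.Basis.repr_self]
    by_cases hji : j = i
    · rw [if_pos hji]
      have : (⟨j, h⟩ : {i : ι // i ≠ o}) = i := Subtype.ext hji
      rw [this, Finsupp.single_eq_same]
    · rw [if_neg hji]
      have : (⟨j, h⟩ : {i : ι // i ≠ o}) ≠ i := fun e => hji (congrArg Subtype.val e)
      rw [Finsupp.single_eq_of_ne (by first | exact this | exact this.symm)]

theorem sum_ite_perm (σ : Perm ι) (o : ι) : ∑ i, (if σ i = o then (1 : K) else 0) = 1 := by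
  rw [Finset.sum_eq_single (σ.symm o)]
  · rw [if_pos (σ.apply_symm_apply o)]
  · intro i _ hi
    rw [if_neg]
    rintro rfl
    exact hi (σ.symm_apply_apply i).symm
  · exact fun h => absurd (Finset.mem_univ _) h

theorem sum_ite_fix (σ : Perm ι) : ∑ i, (if σ i = i then (1 : K) else 0) = (fix σ : K) := by
  rw [Finset.sum_ite, Finset.sum_const_zero, add_zero, Finset.sum_const, nsmul_eq_mul, mul_one]
  rfl

/-- **The trace in a `Sys`.** -/
theorem sys_trace (S : Sys K v) {f : V →ₗ[K] V} {σ : Perm ι} (h : ∀ i, f (v i) = v (σ i)) :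
    LinearMap.trace K V f = (fix σ : K) - 1 := by
  classical
  obtain ⟨o, -, -⟩ := S.exists_two
  rw [LinearMap.trace_eq_matrix_trace K (sysBasis S o) f, Matrix.trace]
  have h1 : ∀ i : {i : ι // i ≠ o}, Matrix.diag (LinearMap.toMatrix (sysBasis S o) (sysBasis S o) f) i =
      (fun i : ι => (if σ i = i then (1 : K) else 0) - (if σ i = o then 1 else 0)) i := by
    intro i
    rw [Matrix.diag_apply, LinearMap.toMatrix_apply, sysBasis_apply, h, sysBasis_repr]
  rw [Finset.sum_congr rfl fun i _ => h1 i,
    ← Finset.sum_subtype (Finset.univ.erase o) (fun x => by simp)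
      (fun i : ι => (if σ i = i then (1 : K) else 0) - (if σ i = o then 1 else 0)),
    Finset.sum_erase _ (by simp), Finset.sum_sub_distrib, sum_ite_fix, sum_ite_perm]

end

variable {α : Type*} [Fintype α] [DecidableEq α]
variable {K V : Type*} [Field K] [AddCommGroup V] [Module K V] [FiniteDimensional K V]

namespace NatM

variable {ρ : Representation K (alternatingGroup α) V} {F : α → α → V}

theorem trace_of_ne (N : NatM ρ F) (h8 : 8 ≤ Fintype.card α) (hm : (Fintype.card α : K) ≠ 0) (g : alternatingGroup α) :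
    LinearMap.trace K V (ρ g) = (fix (g : Perm α) : K) - 1 :=
  sys_trace (N.sys_of_ne h8 hm) fun i => N.act_vec g i

theorem trace_of_eq (N : NatM ρ F) (h8 : 8 ≤ Fintype.card α) (hm : (Fintype.card α : K) = 0) (hirr : Irr ρ)
    (g : alternatingGroup α) : LinearMap.trace K V (ρ g) = (fix (g : Perm α) : K) - 2 := by
  classical
  obtain ⟨o, o', hoo⟩ : ∃ o o' : α, o' ≠ o := by
    obtain ⟨i, j, h⟩ := N.ne
    refine ⟨i, j, ?_⟩
    rintro rfl
    exact h (N.self _)
  let S := N.sys_of_eq h8 hm hirr o
  let p : {i : α // i ≠ o} := ⟨o', hoo⟩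
  -- the coordinates of `F j o`
  have hc : ∀ (j : α) (i : {i : {i : α // i ≠ o} // i ≠ p}), (sysBasis S p).repr (F j o) i =
      (if j = (i : {i : α // i ≠ o}) then 1 else 0) - (if j = o' then 1 else 0) := by
    intro j i
    by_cases h : j = o
    · have hi : o ≠ ((i : {i : α // i ≠ o}) : α) := fun e => i.1.2 e.symm
      rw [h, N.self, map_zero, Finsupp.zero_apply, if_neg hi, if_neg (Ne.symm hoo), sub_zero]
    · have h1 := sysBasis_repr S p ⟨j, h⟩ i
      change (sysBasis S p).repr (F j o) i = _ at h1
      rw [h1]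
      congr 1
      · by_cases e : j = ((i : {i : α // i ≠ o}) : α)
        · rw [if_pos e, if_pos (Subtype.ext e)]
        · rw [if_neg e, if_neg (fun e' => e (congrArg Subtype.val e'))]
      · by_cases e : j = o'
        · rw [if_pos e, if_pos (Subtype.ext e)]
        · rw [if_neg e, if_neg (fun e' => e (congrArg Subtype.val e'))]
  rw [LinearMap.trace_eq_matrix_trace K (sysBasis S p) (ρ g), Matrix.trace]
  let t : α → K := fun i => (if (g : Perm α) i = i then (1 : K) else 0) - (if (g : Perm α) i = o' then 1 else 0) -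
    ((if (g : Perm α) o = i then (1 : K) else 0) - (if (g : Perm α) o = o' then 1 else 0))
  have h1 : ∀ i : {i : {i : α // i ≠ o} // i ≠ p}, Matrix.diag (LinearMap.toMatrix (sysBasis S p) (sysBasis S p) (ρ g)) i =
      t i := by
    intro i
    rw [Matrix.diag_apply, LinearMap.toMatrix_apply, sysBasis_apply, N.act]
    have h2 : F ((g : Perm α) ((i : {i : α // i ≠ o}) : α)) ((g : Perm α) o) =
        F ((g : Perm α) ((i : {i : α // i ≠ o}) : α)) o - F ((g : Perm α) o) o := by
      rw [← N.tri _ ((g : Perm α) o) o]; abel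
    rw [h2, map_sub, Finsupp.sub_apply, hc, hc]
  rw [Finset.sum_congr rfl fun i _ => h1 i]
  have h3 : ∑ i : {i : {i : α // i ≠ o} // i ≠ p}, t i = ∑ i, t i := by
    rw [← Finset.sum_subtype (Finset.univ.erase p) (fun x => by simp) (fun i : {i : α // i ≠ o} => t i),
      Finset.sum_erase _ (by simp [t, p]), ← Finset.sum_subtype (Finset.univ.erase o) (fun x => by simp) t,
      Finset.sum_erase _ (by simp [t])]
  rw [h3]
  simp only [t]
  rw [Finset.sum_sub_distrib, Finset.sum_sub_distrib, Finset.sum_sub_distrib, sum_ite_fix, sum_ite_perm, Finset.sum_const,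
    Finset.card_univ, Finset.sum_ite_eq, if_pos (Finset.mem_univ _), nsmul_eq_mul, hm, zero_mul]
  ring

end NatM

end Cfsg.Agent.H964.AltMod
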